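import Groth.Agent.H19Chev.Structure
import Groth.Agent.H20Conj.MaxConv
import Groth.Agent.H21Dyn.Scheme
import Groth.Agent.H21Split.Corad.Normal

/-!
Tori of a connected group lie in its affine part.
-/

set_option autoImplicit false
set_option linter.style.haveILetI false
set_option backward.isDefEq.respectTransparency false
set_option maxHeartbeats 1000000
set_option synthInstance.maxHeartbeats 400000
universe u

open CategoryTheory CategoryTheory.Limits MonoidalCategory CartesianMonoidalCategory MonObj AlgebraicGeometry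

noncomputable section

namespace Groth.Agent.H21Aff

variable {k : Type u} [Field k] [IsAlgClosed k]

/-- A torus over an algebraically closed field is affine, smooth and connected. -/
theorem torus_props (T : Over (Spec (CommRingCat.of k))) [GrpObj T] (hT : Red.IsTorus T) :
    IsAffine T.left ∧ Smooth T.hom ∧ ConnectedSpace T.left := by
  obtain ⟨n, e, -⟩ := H21Dyn.exists_split_algClosed T hT
  let f : Spec (CommRingCat.of (H21Dyn.Lat k n)) ≅ T.left := (Over.forget _).mapIso e
  haveI : IsAffine T.left := IsAffine.of_isIso f.inv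
  haveI : IrreducibleSpace ↥(Spec (CommRingCat.of (H21Dyn.Lat k n))) :=
    inferInstanceAs (IrreducibleSpace (PrimeSpectrum (MonoidAlgebra k (Multiplicative (Fin n → ℤ)))))
  exact ⟨inferInstance, H21Split.Corad.smooth_torus T hT,
    (Scheme.Hom.homeomorph f.hom).surjective.connectedSpace (Scheme.Hom.homeomorph f.hom).continuous⟩

/-- The affine part of a smooth connected group. -/
theorem exists_affinePart (G : Over (Spec (CommRingCat.of k))) [GrpObj G] [Smooth G.hom] [QuasiCompact G.hom]
    [ConnectedSpace G.left] :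
    ∃ (L : Over (Spec (CommRingCat.of k))) (_ : GrpObj L) (l : L ⟶ G), IsMonHom l ∧ IsClosedImmersion l.left ∧ Mono l ∧
      AlgGrp.IsNormalHom l ∧ IsAffine L.left ∧ Smooth L.hom ∧ ConnectedSpace L.left ∧
      ∀ (H : Over (Spec (CommRingCat.of k))) [GrpObj H] (i : H ⟶ G) [IsMonHom i],
        IsAffine H.left → Smooth H.hom → ConnectedSpace H.left → ∃ v : H ⟶ L, v ≫ l = i ∧ IsMonHom v := by
  obtain ⟨L, gL, l, Q, gQ, q, hl, hlc, hLa, hLs, hLc, hLn, hq, -, -, -, hk, hQp, -, -⟩ :=
    H19Chev.exists_chevalley G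
  haveI := hl; haveI := hlc; haveI := hq; haveI := hQp
  haveI : Mono l := Over.mono_of_mono_left _
  refine ⟨L, gL, l, hl, hlc, inferInstance, hLn, hLa, hLs, hLc, fun H _ i _ ha hs hc => ?_⟩
  haveI := ha; haveI := hs; haveI := hc
  obtain ⟨v, hv⟩ := H19Grp.kernel_lift hk i (H19Chev.eq_one_of_affine_to_proper (i ≫ q))
  exact ⟨v, hv, H21Diag.isMonHom_of_mul _ fun {X} a b => by
    rw [← cancel_mono l]
    simp only [Category.assoc, MonObj.mul_comp, hv]⟩

theorem isMaxTorus_of_comp {S : Scheme.{u}} {T L G : Over S} [GrpObj T] [GrpObj L] [GrpObj G] (v : T ⟶ L) (l : L ⟶ G)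
    [IsMonHom l] [Mono l] (hv : IsMonHom v) (h : AGF.IsMaxTorus (v ≫ l)) : AGF.IsMaxTorus v := by
  obtain ⟨-, hm, hT, hmax⟩ := h
  haveI := hm
  refine ⟨hv, mono_of_mono v l, hT, fun T' _ j _ _ f hT' hf => ?_⟩
  haveI : Mono (j ≫ l) := mono_comp _ _
  exact hmax T' (j ≫ l) f hT' (by rw [← Category.assoc, hf])

end Groth.Agent.H21Aff
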