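import Groth.Agent.H21Aff.Part
import Groth.Agent.H19Chev.AntiAffineImage
import Groth.Agent.H19Chev.SolvableIsogeny
import Groth.Agent.H22Alg.VarGeom
import Groth.Agent.H19Quot.AbelianCat

/-!
Borel subgroups of smooth connected groups.
-/

set_option autoImplicit false
set_option linter.style.haveILetI false
set_option backward.isDefEq.respectTransparency false
set_option maxHeartbeats 1000000
set_option synthInstance.maxHeartbeats 400000
universe u

open CategoryTheory CategoryTheory.Limits MonoidalCategory CartesianMonoidalCategory MonObj AlgebraicGeometry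
open Groth.Agent Groth.Agent.H25AbCube Groth.Agent.H19Quot

noncomputable section

namespace Groth.Agent.H21Aff

variable {k : Type u} [Field k] [IsAlgClosed k]

local notation "Pts" X => 𝟙_ (Over (Spec (CommRingCat.of k))) ⟶ X

/-- A smooth connected solvable closed subgroup lies in a Borel subgroup. -/
theorem exists_borel_ge (G : Over (Spec (CommRingCat.of k))) [GrpObj G] [LocallyOfFiniteType G.hom]
    [QuasiCompact G.hom] (C₀ : Over (Spec (CommRingCat.of k))) [GrpObj C₀] (c₀ : C₀ ⟶ G) [IsMonHom c₀]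
    [IsClosedImmersion c₀.left] (hs : Smooth C₀.hom) (hc : ConnectedSpace C₀.left) (hsol : Red.IsSolvableGrp C₀) :
    ∃ (B : Over (Spec (CommRingCat.of k))) (_ : GrpObj B) (b : B ⟶ G), Red.IsBorelOver k b ∧ ∃ f : C₀ ⟶ B, f ≫ b = c₀ := by
  haveI : JacobsonSpace G.left := LocallyOfFiniteType.jacobsonSpace G.hom
  haveI : IsSeparated G.hom := H19Grp.AffineQuotient.isSeparated_of_grp G
  let P : Set G.left → Prop := fun Z => ∃ (B : Over (Spec (CommRingCat.of k))) (_ : GrpObj B) (b : B ⟶ G),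
    IsMonHom b ∧ IsClosedImmersion b.left ∧ Smooth B.hom ∧ ConnectedSpace B.left ∧ Red.IsSolvableGrp B ∧
      (∃ f : C₀ ⟶ B, f ≫ b = c₀) ∧ Set.range b.left = Z
  have hic : ∀ Z, P Z → ∃ C : TopologicalSpace.IrreducibleCloseds G.left, (C : Set G.left) = Z := by
    rintro _ ⟨B, gB, b, hb, hbc, hBs, hBc, -, -, rfl⟩
    haveI := hbc; haveI := hBs; haveI := hBc
    haveI : QuasiCompact B.hom := by rw [← Over.w b]; infer_instance
    haveI := H19Chev.geometricallyIntegral_grp B
    haveI : IsIntegral B.left := GeometricallyIntegral.isIntegral_of_subsingleton B.hom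
    exact ⟨⟨_, Set.image_univ ▸ (IrreducibleSpace.isIrreducible_univ B.left).image b.left b.left.continuous.continuousOn,
      b.left.isClosedEmbedding.isClosed_range⟩, rfl⟩
  have hP0 : P (Set.range c₀.left) := ⟨C₀, inferInstance, c₀, inferInstance, inferInstance, hs, hc, hsol,
    ⟨𝟙 _, Category.id_comp _⟩, rfl⟩
  haveI : Nonempty G.left := ⟨Stab.pnt (1 : Pts G)⟩
  obtain ⟨z₀, -, hdim⟩ := H22Alg.FibreCount.exists_dim_eq G.hom
  obtain ⟨d, hd⟩ := H22Alg.FibreCount.cdim_natCast G.hom z₀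
  obtain ⟨Z, hZ, hmax⟩ : ∃ Z, P Z ∧ ∀ Z', P Z' → Z ⊆ Z' → Z' = Z := by
    let S : Set ℕ := {l | ∃ C : TopologicalSpace.IrreducibleCloseds G.left, P C ∧ Order.height C = l}
    have hh : ∀ C : TopologicalSpace.IrreducibleCloseds G.left, ∃ l : ℕ, l ≤ d ∧ Order.height C = l := fun C => by
      have h := (Order.height_le_krullDim C).trans_eq ((show Order.krullDim (TopologicalSpace.IrreducibleCloseds
        G.left) = topologicalKrullDim G.left from rfl).trans (hdim.trans hd))
      obtain ⟨l, hl⟩ : ∃ l : ℕ, Order.height C = l := by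
        refine ⟨(Order.height C).toNat, (ENat.coe_toNat fun htop => ?_).symm⟩
        rw [htop] at h
        exact (ENat.coe_lt_top d).not_ge (WithBot.coe_le_coe.1 h)
      rw [hl] at h
      exact ⟨l, by exact_mod_cast h, hl⟩
    obtain ⟨D₀, hD₀⟩ := hic _ hP0
    have hS : S.Nonempty := by
      obtain ⟨l, -, hl⟩ := hh D₀
      exact ⟨l, D₀, hD₀ ▸ hP0, hl⟩
    have hSb : BddAbove S := ⟨d, by
      rintro l ⟨C, -, hC⟩
      obtain ⟨l', hl', hl''⟩ := hh C
      rw [hC] at hl''
      exact (show l = l' by exact_mod_cast hl'') ▸ hl'⟩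
    obtain ⟨C, hC, hCl⟩ := Nat.sSup_mem hS hSb
    refine ⟨C, hC, fun Z' hZ' hle => ?_⟩
    obtain ⟨C', rfl⟩ := hic Z' hZ'
    by_contra hne
    obtain ⟨l', hl', hl''⟩ := hh C'
    have hlt := Order.height_strictMono (lt_of_le_of_ne (show C ≤ C' from hle) fun e => hne (e ▸ rfl))
      (by rw [hCl]; exact ENat.coe_lt_top _)
    rw [hCl, hl''] at hlt
    exact absurd (le_csSup hSb ⟨C', hZ', hl''⟩) (not_le.2 (by exact_mod_cast hlt))
  obtain ⟨B, gB, b, hb, hbc, hBs, hBc, hBsol, ⟨f, hf⟩, rfl⟩ := id hZ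
  refine ⟨B, gB, b, ⟨hb, hbc, hBs, hBc, hBsol, fun B' _ b' _ g hb'c hB's hB'c hB'sol hg => ?_⟩, f, hf⟩
  haveI := hb'c; haveI := hbc; haveI := hB's
  have hle : Set.range b.left ⊆ Set.range b'.left := by
    rintro _ ⟨x, rfl⟩
    exact ⟨g.left x, by rw [← Scheme.Hom.comp_apply, ← Over.comp_left, hg]⟩
  have hEq : Set.range b'.left = Set.range b.left :=
    hmax _ ⟨B', inferInstance, b', inferInstance, hb'c, hB's, hB'c, hB'sol, ⟨f ≫ g, by rw [Category.assoc, hg, hf]⟩, rfl⟩ hle
  haveI : IsClosedImmersion (g.left ≫ b'.left) := by rw [← Over.comp_left, hg]; infer_instance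
  haveI : IsClosedImmersion g.left := IsClosedImmersion.of_comp g.left b'.left
  haveI : Surjective g.left := ⟨fun y => by
    obtain ⟨x, hx⟩ := hEq.le ⟨y, rfl⟩
    exact ⟨x, b'.left.isClosedEmbedding.injective (by rw [← Scheme.Hom.comp_apply, ← Over.comp_left, hg]; exact hx)⟩⟩
  haveI : AlgebraicGeometry.IsReduced B'.left := H13AlgSp.isReduced_of_smooth_mor B'.hom
  haveI : IsIso g.left := isIso_of_isClosedImmersion_of_surjective g.left
  haveI : IsIso ((Over.forget _).map g) := ‹IsIso g.left›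
  exact isIso_of_reflects_iso g (Over.forget _)

/-- The product of a solvable subgroup and the anti-affine part. -/
theorem exists_solvable_with_antiAffine (G : Over (Spec (CommRingCat.of k))) [GrpObj G] [Smooth G.hom] [QuasiCompact G.hom]
    [ConnectedSpace G.left] (B : Over (Spec (CommRingCat.of k))) [GrpObj B] (b : B ⟶ G) [IsMonHom b]
    [IsClosedImmersion b.left] [Smooth B.hom] [ConnectedSpace B.left] (hsol : Red.IsSolvableGrp B) :
    ∃ (C : Over (Spec (CommRingCat.of k))) (_ : GrpObj C) (c : C ⟶ G), IsMonHom c ∧ IsClosedImmersion c.left ∧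
      Smooth C.hom ∧ ConnectedSpace C.left ∧ Red.IsSolvableGrp C ∧
      ∀ (x : Pts B) (m : Pts (H19Grp.AffinizationKernel.N G)), ∃ z : Pts C,
        z ≫ c = (x ≫ b) * (m ≫ H19Grp.AffinizationKernel.incl G) := by
  haveI : IsSeparated G.hom := H19Grp.AffineQuotient.isSeparated_of_grp G
  let D := H19Grp.AffinizationKernel.N G
  let d := H19Grp.AffinizationKernel.incl G
  obtain ⟨gD, hd⟩ := H19Grp.AffinizationKernel.exists_grpObj G
  obtain ⟨hDiso, hDs, hDc⟩ := H19Grp.AffinizationKernel.smooth_and_connected G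
  haveI := hd; haveI := hDiso; haveI := hDs; haveI := hDc
  haveI : QuasiCompact D.hom := by rw [← Over.w d]; infer_instance
  haveI : QuasiCompact B.hom := by rw [← Over.w b]; infer_instance
  haveI : IsCommMonObj D := H19Grp.AntiAffineGroup.isCommMonObj D
  have hcen : ∀ {T : Over (Spec (CommRingCat.of k))} (x : T ⟶ D) (g : T ⟶ G), (x ≫ d) * g = g * (x ≫ d) :=
    fun x g => H19Grp.AntiAffineGroup.central d x g
  let φ : B ⊗ D ⟶ G := (fst B D ≫ b) * (snd B D ≫ d)
  have hpt : ∀ {T : Over (Spec (CommRingCat.of k))} (v : T ⟶ B ⊗ D), v ≫ φ = ((v ≫ fst B D) ≫ b) * ((v ≫ snd B D) ≫ d) :=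
    fun v => by simp only [φ, MonObj.comp_mul, Category.assoc]
  haveI : IsMonHom φ := H21Diag.isMonHom_of_mul _ fun {T} v w => by
    rw [hpt, hpt, hpt, MonObj.mul_comp, MonObj.mul_comp, MonObj.mul_comp, MonObj.mul_comp, _root_.mul_assoc,
      ← _root_.mul_assoc ((w ≫ fst B D) ≫ b), ← hcen (v ≫ snd B D) ((w ≫ fst B D) ≫ b),
      _root_.mul_assoc ((v ≫ snd B D) ≫ d), ← _root_.mul_assoc]
  haveI : Smooth (B ⊗ D).hom := H19Grp.PointsDense.smooth_tensor B D
  haveI : GeometricallyConnected B.hom := H22Alg.VarGeom.geometricallyConnected_of_isSepClosed B.hom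
  haveI : UniversallyOpen B.hom := inferInstance
  haveI : ConnectedSpace (B ⊗ D).left := (inferInstance : ConnectedSpace ↥(pullback B.hom D.hom))
  haveI : QuasiCompact (B ⊗ D).hom := inferInstanceAs (QuasiCompact (pullback.fst B.hom D.hom ≫ B.hom))
  obtain ⟨C, gC, p, c, hp, hc, hpc, hpf, hps, hpp, hcc⟩ :=
    AbelianCat.exists_image φ ⟨inferInstance, inferInstance⟩ ⟨inferInstance, inferInstance⟩
  haveI := hp; haveI := hpf; haveI := hps; haveI := hpp; haveI := hcc; haveI := hc
  haveI : LocallyOfFiniteType C.hom := by rw [← Over.w c]; infer_instance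
  haveI : QuasiCompact C.hom := by rw [← Over.w c]; infer_instance
  obtain ⟨hCs, hCc⟩ := H19Chev.smooth_connected_image p
  haveI := hCs
  refine ⟨C, gC, c, hc, hcc, hCs, hCc, ?_, fun x m => ⟨lift x m ≫ p, by
    rw [Category.assoc, hpc, hpt, lift_fst, lift_snd]⟩⟩
  obtain ⟨n, hn⟩ := hsol
  haveI : Group.IsSolvable (Pts B) := ⟨n, hn _⟩
  haveI : Group.IsSolvable ((Pts B) × (Pts D)) := inferInstance
  let ψ : (Pts B) × (Pts D) →* (Pts C) := MonoidHom.mk' (fun v => lift v.1 v.2 ≫ p) fun v w => by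
    rw [← MonObj.mul_comp]
    congr 1
    ext <;> simp [MonObj.mul_comp]
  haveI : Group.IsSolvable (Pts C) := Group.isSolvable_of_surjective (f := ψ) fun z => by
    obtain ⟨v, rfl⟩ := H19Chev.exists_pt_lift p z
    exact ⟨(v ≫ fst B D, v ≫ snd B D), by simp [ψ]⟩
  obtain ⟨N, hN⟩ := (inferInstance : Group.IsSolvable (Pts C))
  exact H19Chev.SolvableIsogeny.isSolvableGrp_of_points C N hN

/-- The anti-affine part lifts. -/
theorem exists_pts_decomp (G : Over (Spec (CommRingCat.of k))) [GrpObj G] [Smooth G.hom] [QuasiCompact G.hom]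
    [ConnectedSpace G.left] :
    ∃ (L : Over (Spec (CommRingCat.of k))) (_ : GrpObj L) (l : L ⟶ G), IsMonHom l ∧ IsClosedImmersion l.left ∧
      IsAffine L.left ∧ Smooth L.hom ∧ ConnectedSpace L.left ∧
      ∀ g : Pts G, ∃ (x : Pts L) (m : Pts (H19Grp.AffinizationKernel.N G)),
        g = (x ≫ l) * (m ≫ H19Grp.AffinizationKernel.incl G) := by
  obtain ⟨L, gL, l, h1, h2, h3, h4, h5, -, h7⟩ := H19Chev.pts_decomp G
  exact ⟨L, gL, l, h1, h2, h3, h4, h5, h7⟩

end Groth.Agent.H21Aff
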